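import Groth.Agent.FTors.K919.QCTCart
import Groth.Agent.FTors.K919.SerreQCT
import Groth.Agent.FSch.K180.WSer
import Groth.Agent.FSch.K181.RelBound
import Groth.Agent.SiteCmp.K578.CohDev
import Groth.Agent.S9065

/-!
# Dévissage for `Rf_*` on complexes with quasi-coherent torsion cohomology

`cohIn_RpushD`: if `R^q f_*` carries a weak Serre class `A` of quasi-coherent torsion modules to a weak Serre class
`A'` of quasi-coherent torsion modules, then `Rf_*` carries `D_A` to `D_A'`.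
-/

set_option autoImplicit false
set_option linter.style.haveILetI false

universe u

open CategoryTheory CategoryTheory.Limits AlgebraicGeometry TopologicalSpace Opposite

attribute [local instance] HasDerivedCategory.standard

noncomputable section

namespace K72.Asm

variable {𝔛 𝔜 : FSch.Sys.{u}} (h𝔛 : 𝔛.IsLocNoethFormal) (h𝔜 : 𝔜.IsLocNoethFormal) (f : 𝔛 ⟶ 𝔜)

theorem acycOn_of_le {A : ObjectProperty (FSch.ModF 𝔛 h𝔛.1)} (hA : ∀ F, A F → FTors.IsQCT 𝔛 h𝔛.1 F) :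
    K182.TopRlim.AcycOn (𝔛.Osh h𝔛.1) A (K182.FBound.affs 𝔛) := by
  intro F hF V hV q hq
  obtain ⟨q, rfl⟩ : ∃ q', q = q' + 1 := ⟨q - 1, by omega⟩
  exact K919.QCTCart.subsingleton_HU_of_qct h𝔛 (hA F hF) hV q

theorem exists_cof {A : ObjectProperty (FSch.ModF 𝔛 h𝔛.1)} (hA : ∀ F, A F → FTors.IsQCT 𝔛 h𝔛.1 F)
    (V : Opens (𝔛.X 0)) (_ : V ∈ K182.FBound.affs 𝔛) : ∃ d : ℕ, ∀ T ∈ Opens.grothendieckTopology (𝔛.X 0) V,
      ∃ (ι : Type u) (Y : ι → Opens (𝔛.X 0)) (g : ∀ i, Y i ⟶ V),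
      (∀ i, T.arrows (g i)) ∧ Sieve.ofArrows Y g ∈ Opens.grothendieckTopology (𝔛.X 0) V ∧
      ∀ (i : ι) (F : ModSite.Mod (𝔛.Osh h𝔛.1)), A F → ∀ k : ℕ, d < k →
        Subsingleton (ModSite.HU (𝔛.Osh h𝔛.1) F k (Y i)) := by
  refine ⟨0, fun T hT => ?_⟩
  obtain ⟨ι, Y, g, h1, h2, h3⟩ := K182.TopRlim.exists_cover (K182.FBound.isBasis 𝔛) V T hT
  exact ⟨ι, Y, g, h1, h2, fun i F hF k hk => acycOn_of_le h𝔛 hA F hF (Y i) (h3 i) k hk⟩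

theorem exists_cov (U : Opens (𝔛.X 0)) : ∃ (ι : Type u) (Y : ι → Opens (𝔛.X 0)) (g : ∀ i, Y i ⟶ U),
    Sieve.ofArrows Y g ∈ Opens.grothendieckTopology (𝔛.X 0) U ∧ ∀ i, Y i ∈ K182.FBound.affs 𝔛 := by
  obtain ⟨ι, Y, g, -, h2, h3⟩ := K182.TopRlim.exists_cover (K182.FBound.isBasis 𝔛) U ⊤
    ((Opens.grothendieckTopology _).top_mem U)
  exact ⟨ι, Y, g, h2, h3⟩

/-- Dévissage. -/
theorem cohIn_RpushD [CompactSpace (𝔛.X 0)] [CompactSpace (𝔜.X 0)]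
    [SiteCmp.HasRpushD (FSch.homMor f h𝔛.1 h𝔜.1)] [HasInjectiveResolutions (FSch.ModF 𝔛 h𝔛.1)]
    (A : ObjectProperty (FSch.ModF 𝔛 h𝔛.1)) [WSerre.IsWeakSerre A]
    (A' : ObjectProperty (FSch.ModF 𝔜 h𝔜.1)) [WSerre.IsWeakSerre A']
    (hA : ∀ F, A F → FTors.IsQCT 𝔛 h𝔛.1 F) (hA' : ∀ F, A' F → FTors.IsQCT 𝔜 h𝔜.1 F)
    (h3 : ∀ F : FSch.ModF 𝔛 h𝔛.1, A F → ∀ q : ℕ, A' (((FSch.homMor f h𝔛.1 h𝔜.1).Rpush q).obj F))
    (K : DerivedCategory (FSch.ModF 𝔛 h𝔛.1)) (hK : WSerre.cohIn A K) :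
    WSerre.cohIn A' ((SiteCmp.RpushD (FSch.homMor f h𝔛.1 h𝔜.1)).obj K) := by
  obtain ⟨e, he⟩ := K181.RelBound.exists_bound 𝔛 𝔜 h𝔛 h𝔜.1 f A (acycOn_of_le h𝔛 hA)
  refine (Groth.Agent.S9065.result (FSch.homMor f h𝔛.1 h𝔜.1) A A' (K182.FBound.affs 𝔛) (K182.FBound.affs 𝔜)
    (fun U => exists_cov U) (fun V hV => exists_cof h𝔛 hA V hV) (fun U => exists_cov U)
    (fun V hV => exists_cof h𝔜 hA' V hV) e h3 (fun F hF p hp => ?_) K hK).1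
  have h1 := he ((DerivedCategory.singleFunctor (FSch.ModF 𝔛 h𝔛.1) 0).obj F) 0
    (K578.CohDev.cohIn_single A F hF 0) inferInstance (p : ℤ) (by omega)
  exact h1.of_iso (K578.RpushSingle.homologySingle (FSch.homMor f h𝔛.1 h𝔜.1) F p).symm

end K72.Asm
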