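import Groth.Agent.Etcore.DerLES
import Mathlib.Algebra.Homology.ShortComplex.ExactFunctor

/-!
# Derived functors of composites with exact functors

`nonempty_iso`: if `F ⋙ G ≅ F' ⋙ H` with `F`, `H` exact and `F` carries injectives to `G`-acyclic objects then
`R^q G (F X) ≅ H (R^q F' X)`.
-/

set_option autoImplicit false

open CategoryTheory CategoryTheory.Limits

namespace K72.DerCmp

open Groth.Agent.Etcore.DerLES

universe v₁ v₂ v₃ v₄ u₁ u₂ u₃ u₄

variable {A : Type u₁} [Category.{v₁} A] [Abelian A] {B : Type u₂} [Category.{v₂} B] [Abelian B]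
  {C : Type u₃} [Category.{v₃} C] [Abelian C] {D : Type u₄} [Category.{v₄} D] [Abelian D]
  (F : A ⥤ B) (G : B ⥤ C) (F' : A ⥤ D) (H : D ⥤ C) [F.Additive] [G.Additive] [F'.Additive] [H.Additive]
  [PreservesFiniteLimits F] [PreservesFiniteColimits F] [PreservesFiniteLimits G] [PreservesFiniteLimits F']
  [PreservesFiniteColimits H] [EnoughInjectives A] [EnoughInjectives B]

theorem nonempty_iso (e : F ⋙ G ≅ F' ⋙ H) (hI : ∀ I : A, Injective I → Acyc G (F.obj I)) (q : ℕ) :
    ∀ X : A, Nonempty ((G.rightDerived q).obj (F.obj X) ≅ H.obj ((F'.rightDerived q).obj X)) := by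
  have key : ∀ (S : ShortComplex A), S.ShortExact → (S.map F).ShortExact := fun S hS => hS.map_of_exact F
  induction q with
  | zero =>
    intro X
    exact ⟨(G.rightDerivedZeroIsoSelf.app _) ≪≫ e.app X ≪≫ H.mapIso (F'.rightDerivedZeroIsoSelf.app X).symm⟩
  | succ q ih =>
    intro X
    let S : ShortComplex A := ShortComplex.mk (Injective.ι X) (cokernel.π (Injective.ι X)) (cokernel.condition _)
    have hS : S.ShortExact := ⟨ShortComplex.exact_of_g_is_cokernel _ (cokernelIsCokernel _)⟩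
    have hI2 : Acyc F' S.X₂ := acyc_of_injective F' (Injective.under X)
    have hI3 : Acyc G (S.map F).X₂ := hI (Injective.under X) inferInstance
    cases q with
    | zero =>
      obtain ⟨e1⟩ := nonempty_iso_one G (key S hS) (hI3 0)
      obtain ⟨e2⟩ := nonempty_iso_one F' hS (hI2 0)
      have e3 : cokernel (G.map (F.map S.g)) ≅ cokernel (H.map (F'.map S.g)) :=
        cokernel.mapIso _ _ (e.app S.X₂) (e.app S.X₃) (e.hom.naturality S.g)
      have e4 : cokernel (H.map (F'.map S.g)) ≅ H.obj (cokernel (F'.map S.g)) :=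
        (PreservesCokernel.iso H (F'.map S.g)).symm
      exact ⟨e1 ≪≫ e3 ≪≫ e4 ≪≫ H.mapIso e2.symm⟩
    | succ q =>
      obtain ⟨e1⟩ := nonempty_iso_succ G (key S hS) hI3 q
      obtain ⟨e2⟩ := nonempty_iso_succ F' hS hI2 q
      obtain ⟨e3⟩ := ih S.X₃
      exact ⟨e1 ≪≫ e3 ≪≫ H.mapIso e2.symm⟩

end K72.DerCmp
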