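import Groth.Agent.EtpbcB.RDerLES
import Groth.Prelude.Def_WeakSerre

/-!
# Right derived functors and weak Serre classes

`derived_X₁`, `derived_X₂`, `derived_X₃`: in a short exact sequence, if the right derived functors of two of the
terms lie in a weak Serre class, so do the right derived functors of the third.
-/

set_option autoImplicit false

open CategoryTheory CategoryTheory.Limits
open scoped ZeroObject

namespace K72.DerWS

open Groth.Agent.EtpbcB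

universe v u v' u'

variable {D : Type u'} [Category.{v'} D] [Abelian D]

/-- The five term property of weak Serre classes. -/
theorem mid (Q : ObjectProperty D) [WSerre.IsWeakSerre Q] {X₀ X₁ X₂ X₃ X₄ : D} (f₀ : X₀ ⟶ X₁) (f₁ : X₁ ⟶ X₂)
    (f₂ : X₂ ⟶ X₃) (f₃ : X₃ ⟶ X₄) (w₀ : f₀ ≫ f₁ = 0) (w₁ : f₁ ≫ f₂ = 0) (w₂ : f₂ ≫ f₃ = 0)
    (h₀ : (ShortComplex.mk f₀ f₁ w₀).Exact) (h₁ : (ShortComplex.mk f₁ f₂ w₁).Exact)
    (h₂ : (ShortComplex.mk f₂ f₃ w₂).Exact) (q₀ : Q X₀) (q₁ : Q X₁) (q₃ : Q X₃) (q₄ : Q X₄) : Q X₂ := by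
  have m1 : Mono (cokernel.desc f₀ f₁ w₀) := (ShortComplex.exact_iff_mono_cokernel_desc _).1 h₀
  have m2 : Epi (kernel.lift f₃ f₂ w₂) := (ShortComplex.exact_iff_epi_kernel_lift _).1 h₂
  have hz : cokernel.desc f₀ f₁ w₀ ≫ kernel.lift f₃ f₂ w₂ = 0 := by
    rw [← cancel_mono (kernel.ι f₃), ← cancel_epi (cokernel.π f₀)]
    simp [w₁]
  have hex : (ShortComplex.mk (cokernel.desc f₀ f₁ w₀) (kernel.lift f₃ f₂ w₂) hz).Exact := by
    have hz2 : cokernel.desc f₀ f₁ w₀ ≫ f₂ = 0 := by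
      rw [← cancel_epi (cokernel.π f₀)]; simp [w₁]
    have h5 : (ShortComplex.mk (cokernel.desc f₀ f₁ w₀) f₂ hz2).Exact := by
      let ψ : ShortComplex.mk f₁ f₂ w₁ ⟶ ShortComplex.mk (cokernel.desc f₀ f₁ w₀) f₂ hz2 :=
        { τ₁ := cokernel.π f₀
          τ₂ := 𝟙 _
          τ₃ := 𝟙 _ }
      have : Epi ψ.τ₁ := inferInstanceAs (Epi (cokernel.π f₀))
      have : IsIso ψ.τ₂ := inferInstanceAs (IsIso (𝟙 _))
      have : Mono ψ.τ₃ := inferInstanceAs (Mono (𝟙 _))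
      exact (ShortComplex.exact_iff_of_epi_of_isIso_of_mono ψ).1 h₁
    let ψ : ShortComplex.mk (cokernel.desc f₀ f₁ w₀) (kernel.lift f₃ f₂ w₂) hz ⟶
      ShortComplex.mk (cokernel.desc f₀ f₁ w₀) f₂ hz2 :=
        { τ₁ := 𝟙 _
          τ₂ := 𝟙 _
          τ₃ := kernel.ι f₃ }
    have : Epi ψ.τ₁ := inferInstanceAs (Epi (𝟙 _))
    have : IsIso ψ.τ₂ := inferInstanceAs (IsIso (𝟙 _))
    have : Mono ψ.τ₃ := inferInstanceAs (Mono (kernel.ι f₃))
    exact (ShortComplex.exact_iff_of_epi_of_isIso_of_mono ψ).2 h5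
  exact Q.prop_X₂_of_shortExact (ShortComplex.ShortExact.mk' hex m1 m2)
    (Q.prop_cokernel f₀ q₀ q₁) (Q.prop_kernel f₃ q₃ q₄)

theorem prop_of_isZero (Q : ObjectProperty D) [WSerre.IsWeakSerre Q] {X : D} (hX : IsZero X) : Q X := by
  obtain ⟨Z, hZ, hQ⟩ := Q.exists_prop_of_containsZero
  exact Q.prop_of_iso (hZ.iso hX) hQ

variable {C : Type u} [Category.{v} C] [Abelian C] [HasInjectiveResolutions C] (G : C ⥤ D) [G.Additive]
  (Q : ObjectProperty D) [WSerre.IsWeakSerre Q] {S : ShortComplex C} (hS : S.ShortExact)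

include hS

theorem mono_zero [PreservesFiniteLimits G] : Mono ((G.rightDerived 0).map S.f) := by
  have hm : Mono (G.map S.f) := by
    have := hS.mono_f
    infer_instance
  have h1 : (G.rightDerived 0).map S.f = (G.rightDerivedZeroIsoSelf.hom.app S.X₁) ≫ G.map S.f ≫
      (G.rightDerivedZeroIsoSelf.inv.app S.X₂) := by
    have h2 := G.rightDerivedZeroIsoSelf.inv.naturality S.f
    rw [h2, Iso.hom_inv_id_app_assoc]
  rw [h1]
  infer_instance

theorem derived_X₁ [PreservesFiniteLimits G] (h₂ : ∀ n, Q ((G.rightDerived n).obj S.X₂))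
    (h₃ : ∀ n, Q ((G.rightDerived n).obj S.X₃)) (q : ℕ) : Q ((G.rightDerived q).obj S.X₁) := by
  obtain _ | q := q
  · have hm' := mono_zero G hS
    have hz : Q (0 : D) := prop_of_isZero Q (isZero_zero D)
    refine mid Q (X₀ := (0 : D)) (X₁ := (0 : D)) 0 0 ((G.rightDerived 0).map S.f)
      ((G.rightDerived 0).map S.g) zero_comp zero_comp (RDerLES.map_comp_zero G (S := S) 0)
      ?_ ?_ (RDerLES.exact₂ G hS 0) hz hz (h₂ 0) (h₃ 0)
    · exact ShortComplex.exact_of_isZero_X₂ _ (isZero_zero D)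
    · exact (ShortComplex.exact_iff_mono _ rfl).2 hm'
  · exact mid Q _ _ _ _ _ _ _ (RDerLES.exact₃ G hS q) (RDerLES.exact₁ G hS q) (RDerLES.exact₂ G hS (q + 1))
      (h₂ q) (h₃ q) (h₂ (q + 1)) (h₃ (q + 1))

theorem derived_X₂ [PreservesFiniteLimits G] (h₁ : ∀ n, Q ((G.rightDerived n).obj S.X₁))
    (h₃ : ∀ n, Q ((G.rightDerived n).obj S.X₃)) (q : ℕ) : Q ((G.rightDerived q).obj S.X₂) := by
  obtain _ | q := q
  · have hm' := mono_zero G hS
    have hz : Q (0 : D) := prop_of_isZero Q (isZero_zero D)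
    refine mid Q (X₀ := (0 : D)) 0 ((G.rightDerived 0).map S.f) ((G.rightDerived 0).map S.g) (RDerLES.δ G hS 0)
      zero_comp (RDerLES.map_comp_zero G (S := S) 0) (RDerLES.comp_δ G hS 0)
      ?_ (RDerLES.exact₂ G hS 0) (RDerLES.exact₃ G hS 0) hz (h₁ 0) (h₃ 0) (h₁ 1)
    exact (ShortComplex.exact_iff_mono _ rfl).2 hm'
  · exact mid Q _ _ _ _ _ _ _ (RDerLES.exact₁ G hS q) (RDerLES.exact₂ G hS (q + 1)) (RDerLES.exact₃ G hS (q + 1))
      (h₃ q) (h₁ (q + 1)) (h₃ (q + 1)) (h₁ (q + 2))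

theorem derived_X₃ (h₁ : ∀ n, Q ((G.rightDerived n).obj S.X₁))
    (h₂ : ∀ n, Q ((G.rightDerived n).obj S.X₂)) (q : ℕ) : Q ((G.rightDerived q).obj S.X₃) :=
  mid Q _ _ _ _ _ _ _ (RDerLES.exact₂ G hS q) (RDerLES.exact₃ G hS q) (RDerLES.exact₁ G hS q)
      (h₁ q) (h₂ q) (h₁ (q + 1)) (h₂ (q + 1))

end K72.DerWS
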