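import Groth.Agent.FTors.K72.Tel
import Groth.Agent.FTors.K919.KSub
import Groth.Agent.FTors.K919.QCTColim

/-!
# The telescope of a torsion module

`shortExact_tel`: for a torsion module `M` the sequence `0 ⟶ ∐ M[J_n] ⟶ ∐ M[J_n] ⟶ M ⟶ 0` is exact.
-/

set_option autoImplicit false
set_option linter.style.haveILetI false

universe u

open CategoryTheory CategoryTheory.Limits AlgebraicGeometry TopologicalSpace Opposite

noncomputable section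

namespace K72.KTel

open K919.KSub K919.Kill K919.SubSh K919.Level K29.RSec K29.RExact K919.AffBasic

variable {𝔛 : FSch.Sys.{u}} (h𝔛 : 𝔛.IsLocNoethFormal) (M : FSch.ModF 𝔛 h𝔛.1)

/-- The sections killed by the `n`-th open ideal. -/
abbrev Kn (n : ℕ) : FSch.ModF 𝔛 h𝔛.1 := (ksub h𝔛 n M).toMod

/-- The transition maps. -/
def tr (n : ℕ) : Kn h𝔛 M n ⟶ Kn h𝔛 M (n + 1) :=
  Sub.incl (N := ksub h𝔛 n M) (N' := ksub h𝔛 (n + 1) M) (fun _ _ hs => hs.mono (Nat.le_succ n))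

/-- The inclusions. -/
def inc (n : ℕ) : Kn h𝔛 M n ⟶ M := (ksub h𝔛 n M).ι

theorem tr_inc (n : ℕ) : tr h𝔛 M n ≫ inc h𝔛 M (n + 1) = inc h𝔛 M n := Sub.incl_ι _

instance (n : ℕ) : Mono (inc h𝔛 M n) := inferInstanceAs (Mono (ksub h𝔛 n M).ι)

theorem isGroth : IsGrothendieckAbelian.{u} (FSch.ModF 𝔛 h𝔛.1) := inferInstance

theorem hasColimNat : HasColimitsOfShape ℕ (FSch.ModF 𝔛 h𝔛.1) := by
  have := isGroth h𝔛
  have : HasFilteredColimitsOfSize.{0, 0} (FSch.ModF 𝔛 h𝔛.1) := hasFilteredColimitsOfSize_of_univLE.{0, 0, u, u}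
  infer_instance

theorem hasCop (J : Type) : HasColimitsOfShape (Discrete J) (FSch.ModF 𝔛 h𝔛.1) := by
  have := isGroth h𝔛
  have : HasColimitsOfShape (Discrete (ULift.{u} J)) (FSch.ModF 𝔛 h𝔛.1) := inferInstance
  exact hasColimitsOfShape_of_equivalence
    (Discrete.equivalence Equiv.ulift : Discrete (ULift.{u} J) ≌ Discrete J)

theorem exactNat : haveI := hasColimNat h𝔛; HasExactColimitsOfShape ℕ (FSch.ModF 𝔛 h𝔛.1) := by
  have := isGroth h𝔛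
  have h : AB5OfSize.{u, u} (FSch.ModF 𝔛 h𝔛.1) := IsGrothendieckAbelian.ab5OfSize
  have h' := @AB5OfSize_of_univLE.{0, 0, u, u} (FSch.ModF 𝔛 h𝔛.1) _ _ _ _ h
  exact h'.ofShape ℕ

/-- The inclusions are jointly epi. -/
theorem epi_desc (hM : FTors.IsTorsF 𝔛 h𝔛.1 M) : haveI := hasCop h𝔛 ℕ; Epi (Sigma.desc (inc h𝔛 M)) := by
  have := hasCop h𝔛 ℕ
  rw [epi_iff_local]
  intro V t x hx
  obtain ⟨W, hxW, hW, n, hn⟩ := (isTorsF_iff M).1 hM V t x hx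
  refine ⟨W, hxW, hW, app (Sigma.ι (Kn h𝔛 M) n) W ((ksub h𝔛 n M).elt _ hn), ?_⟩
  rw [← app_comp, Sigma.ι_desc]
  rfl

/-- The telescope exact sequence of a torsion module. -/
theorem shortExact_tel (hM : FTors.IsTorsF 𝔛 h𝔛.1 M) :
    haveI := hasCop h𝔛 ℕ
    ∃ (a : (∐ Kn h𝔛 M) ⟶ ∐ Kn h𝔛 M) (b : (∐ Kn h𝔛 M) ⟶ M) (w : a ≫ b = 0), (ShortComplex.mk a b w).ShortExact := by
  have := hasCop h𝔛 ℕ
  have := hasColimNat h𝔛
  have := exactNat h𝔛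
  obtain ⟨w, h⟩ := K72.Tel.shortExact (tr h𝔛 M) (inc h𝔛 M) (tr_inc h𝔛 M) inferInstance (epi_desc h𝔛 M hM)
  exact ⟨_, _, w, h⟩

end K72.KTel
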