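import Groth.Agent.FTors.K919.LevelCoh
import Groth.Agent.FSch.K180.WSer

/-!
# Coherent quasi-coherent torsion modules are killed by an open ideal; dévissage

* `exists_kl`: a coherent quasi-coherent torsion module on a quasi-compact formal scheme is killed by an open ideal;
* `isCohF_ksub`, `shortExact_ksub`, `kl_quot`: the subsheaf of the sections killed by the `0`-th open ideal and the
  quotient.
-/

set_option autoImplicit false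
set_option linter.style.haveILetI false

universe u

open CategoryTheory CategoryTheory.Limits AlgebraicGeometry TopologicalSpace Opposite

noncomputable section

namespace K72.KlDev

open K919.AffBasic K919.AffFlat K919.AffD K919.Kill K919.Loc K919.LocGen K919.QCT K919.QCTCart K919.SubSh K919.Level
open K919.KSub K919.SerreTors K919.H1 K29.RSec K29.RExact K181.Good K181.Formal

variable {𝔛 : FSch.Sys.{u}} (h𝔛 : 𝔛.IsLocNoethFormal)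

include h𝔛 in
theorem kb_of_unit_smul {M : FSch.ModF 𝔛 h𝔛.1} {n : ℕ} {V : (𝔛.X 0).Opens} {u : O (𝔛.Osh h𝔛.1) V} (hu : IsUnit u)
    {s : Sec M V} (hs : KB M n (u • s)) : KB M n s := by
  obtain ⟨u, rfl⟩ := hu
  have h1 := hs.smul (↑u⁻¹ : O (𝔛.Osh h𝔛.1) V)
  rwa [← mul_smul, Units.inv_mul, one_smul] at h1

/-- A finite quasi-coherent torsion module is killed by an open ideal on an affine open. -/
theorem exists_kl_affine {M : FSch.ModF 𝔛 h𝔛.1} (hM : FTors.IsQCT 𝔛 h𝔛.1 M) {V : (𝔛.X 0).Opens}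
    (hV : IsAffineOpen V) (hfin : Module.Finite (O (𝔛.Osh h𝔛.1) V) (Sec M V)) :
    ∃ n, ∀ (W : (𝔛.X 0).Opens) (_ : W ≤ V) (t : Sec M W), KB M n t := by
  obtain ⟨S, hS⟩ := hfin.fg_top
  choose n hn using fun s : Sec M V => exists_kb hV.isCompact s (hM.1 V s)
  have h1 : ∀ s : Sec M V, KB M (S.sup n) s := by
    intro s
    have hs : s ∈ Submodule.span (O (𝔛.Osh h𝔛.1) V) (S : Set (Sec M V)) := by rw [hS]; trivial
    refine Submodule.span_induction (p := fun s _ => KB M (S.sup n) s) ?_ ?_ ?_ ?_ hs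
    · intro s hs
      exact (hn s).mono (Finset.le_sup hs)
    · exact kb_zero _ _ _
    · intro a b _ _ ha hb
      exact ha.add hb
    · intro r a _ ha
      exact ha.smul r
  refine ⟨S.sup n, fun W hW t => kb_of_local fun x hx => ?_⟩
  obtain ⟨a, hxa, ha⟩ := exists_Do h𝔛 ((aff_iff h𝔛).2 hV) hW hx
  refine ⟨Do h𝔛 a, hxa, ha, ?_⟩
  obtain ⟨k, s, hs⟩ := (((isQCT_iff h𝔛 M).1 hM).2 V hV.isCompact a).2 (res M ha t)
  have h2 := (h1 s).res (Do_le h𝔛 a)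
  rw [hs] at h2
  exact kb_of_unit_smul h𝔛 ((isUnit_Do h𝔛 a).pow k) h2

/-- A coherent quasi-coherent torsion module on a quasi-compact formal scheme is killed by an open ideal. -/
theorem exists_kl [CompactSpace (𝔛.X 0)] {M : FSch.ModF 𝔛 h𝔛.1} (hM : FTors.IsQCT 𝔛 h𝔛.1 M)
    (hc : FSch.IsCohF 𝔛 h𝔛.1 M) : ∃ n, KL h𝔛 n M := by
  have h1 : ∀ x : 𝔛.X 0, ∃ (V : (𝔛.X 0).Opens) (_ : x ∈ V) (n : ℕ),
      ∀ (W : (𝔛.X 0).Opens) (_ : W ≤ V) (t : Sec M W), KB M n t := by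
    intro x
    obtain ⟨V, hV, hxV, -⟩ := Opens.isBasis_iff_nbhd.mp (𝔛.X 0).isBasis_affineOpens
      (show x ∈ (⊤ : (𝔛.X 0).Opens) from trivial)
    obtain ⟨n, hn⟩ := exists_kl_affine h𝔛 hM hV (cartF_of_coh h𝔛 hc hV).2
    exact ⟨V, hxV, n, hn⟩
  choose V hx n hn using h1
  obtain ⟨t, ht⟩ := isCompact_univ.elim_finite_subcover (fun x : 𝔛.X 0 => ((V x : (𝔛.X 0).Opens) : Set (𝔛.X 0)))
    (fun x => (V x).isOpen) (fun x _ => Set.mem_iUnion.2 ⟨x, hx x⟩)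
  refine ⟨t.sup n, fun W s => kb_of_local fun x hxW => ?_⟩
  obtain ⟨y, hy⟩ := Set.mem_iUnion.1 (ht (Set.mem_univ x))
  obtain ⟨hy1, hy2⟩ := Set.mem_iUnion.1 hy
  exact ⟨V y ⊓ W, ⟨hy2, hxW⟩, inf_le_right, (hn y _ inf_le_left _).mono (Finset.le_sup hy1)⟩

section Devissage

variable {M : FSch.ModF 𝔛 h𝔛.1}

/-- `M[J_0]` is coherent for `M` coherent. -/
theorem isCohF_ksub (hM : FTors.IsQCT 𝔛 h𝔛.1 M) (hc : FSch.IsCohF 𝔛 h𝔛.1 M) (n : ℕ) :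
    FSch.IsCohF 𝔛 h𝔛.1 (ksub h𝔛 n M).toMod := by
  refine K919.LevelCoh.isCohF_of_qct h𝔛 (qct_ksub h𝔛 n M hM.2) fun x => ?_
  obtain ⟨V, hV, hxV, -⟩ := Opens.isBasis_iff_nbhd.mp (𝔛.X 0).isBasis_affineOpens
    (show x ∈ (⊤ : (𝔛.X 0).Opens) from trivial)
  refine ⟨V, hxV, hV, ?_⟩
  have h1 : Module.Finite (O (𝔛.Osh h𝔛.1) V) (Sec M V) := (cartF_of_coh h𝔛 hc hV).2
  have h2 : IsNoetherianRing (O (𝔛.Osh h𝔛.1) V) := isNoetherianRing_OU h𝔛 ((aff_iff h𝔛).2 hV)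
  exact Module.Finite.of_injective (app (ksub h𝔛 n M).ι V) ((ksub h𝔛 n M).injective_ι V)

variable (M) in
/-- The exact sequence `0 ⟶ M[J_n] ⟶ M ⟶ M / M[J_n] ⟶ 0`. -/
def kseq (n : ℕ) : ShortComplex (FSch.ModF 𝔛 h𝔛.1) :=
  ShortComplex.mk (ksub h𝔛 n M).ι (cokernel.π (ksub h𝔛 n M).ι) (cokernel.condition _)

variable (M) in
theorem shortExact_kseq (n : ℕ) : (kseq h𝔛 M n).ShortExact where
  exact := ShortComplex.exact_of_g_is_cokernel _ (cokernelIsCokernel _)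
  mono_f := inferInstanceAs (Mono (ksub h𝔛 n M).ι)
  epi_g := inferInstanceAs (Epi (cokernel.π (ksub h𝔛 n M).ι))

theorem qct_quot (hM : FTors.IsQCT 𝔛 h𝔛.1 M) (n : ℕ) : FTors.IsQCT 𝔛 h𝔛.1 (kseq h𝔛 M n).X₃ := by
  have := K919.SerreQCT.isWeakSerre_QCT h𝔛
  exact ObjectProperty.prop_cokernel _ (ksub h𝔛 n M).ι (qct_ksub h𝔛 n M hM.2) hM

theorem coh_quot (hM : FTors.IsQCT 𝔛 h𝔛.1 M) (hc : FSch.IsCohF 𝔛 h𝔛.1 M) (n : ℕ) :
    FSch.IsCohF 𝔛 h𝔛.1 (kseq h𝔛 M n).X₃ := by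
  have := K180.WSer.isWeakSerre_isCohF h𝔛
  exact ObjectProperty.prop_cokernel (P := fun 𝔊 : FSch.ModF 𝔛 h𝔛.1 => FSch.IsCohF 𝔛 h𝔛.1 𝔊) (ksub h𝔛 n M).ι
    (isCohF_ksub h𝔛 hM hc n) hc

theorem kl_of_epi {n : ℕ} (hM : KL h𝔛 (n + 1) M) {Q : FSch.ModF 𝔛 h𝔛.1} (p : M ⟶ Q) [Epi p]
    (hz : (ksub h𝔛 0 M).ι ≫ p = 0) : KL h𝔛 n Q := by
  intro V t
  refine kb_of_local fun x hx => ?_
  obtain ⟨W, hxW, hW, s, hs⟩ := (epi_iff_local p).1 inferInstance V t x hx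
  obtain ⟨U, hxU, hUW, hU⟩ := exists_affine h𝔛 hxW
  refine ⟨U, hxU, hUW.trans hW, ?_⟩
  have h1 : app p U (res M hUW s) = res Q (hUW.trans hW) t := by
    rw [app_res, hs, res_res]
  rw [← h1, kb_iff h𝔛 hU]
  intro a ha
  have h2 : KB M 0 (a • res M hUW s) := by
    rw [kb_iff h𝔛 hU]
    intro b hb
    rw [← mul_smul]
    refine (kb_iff h𝔛 hU _ _ _).1 (hM U (res M hUW s)) (b * a) ?_
    have h3 : b * a ∈ RingHom.ker (prO (h := h𝔛.1) (0 + n + 1) U) := by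
      rw [ker_prO_add h𝔛 hU]
      exact Ideal.mul_mem_mul hb ha
    rw [zero_add] at h3
    exact h3
  have h5 : app p U (app (ksub h𝔛 0 M).ι U ((ksub h𝔛 0 M).elt _ h2)) = 0 := by
    rw [← app_comp, hz]
    rfl
  rw [← map_smul]
  exact h5

/-- If `M` is killed by the `(n+1)`-st open ideal then `M / M[J_0]` is killed by the `n`-th one. -/
theorem kl_quot {n : ℕ} (hM : KL h𝔛 (n + 1) M) : KL h𝔛 n (kseq h𝔛 M 0).X₃ := by
  exact @kl_of_epi 𝔛 h𝔛 M n hM (kseq h𝔛 M 0).X₃ (kseq h𝔛 M 0).g (shortExact_kseq h𝔛 M 0).epi_g (kseq h𝔛 M 0).zero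

end Devissage

end K72.KlDev
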