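import Groth.Agent.FTors.K72.LvDer
import Groth.Agent.S0030
import Groth.Agent.S0036

/-!
# Higher direct images of quasi-coherent torsion modules killed by an open ideal

* `qct_Rpush_of_kl`: `R^q f_*` of a quasi-coherent torsion module killed by the `n`-th open ideal is quasi-coherent
  torsion;
* `isCohF_Rpush_of_kl`: and coherent if the module is coherent and `f_n` is proper.
-/

set_option autoImplicit false
set_option linter.style.haveILetI false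

universe u

open CategoryTheory CategoryTheory.Limits AlgebraicGeometry TopologicalSpace Opposite

noncomputable section

namespace K72.LvCoh

open K919.Level K72.LvDer

variable {𝔛 𝔜 : FSch.Sys.{u}} (h𝔛 : 𝔛.IsLocNoethFormal) (h𝔜 : 𝔜.IsLocNoethFormal) (f : 𝔛 ⟶ 𝔜) (n : ℕ)

theorem hasInj (X : Scheme.{u}) : HasInjectiveResolutions X.Modules := K578.Der.hasInjectiveResolutions X.sheaf

include h𝔛 in
theorem isNoetherian_X [CompactSpace (𝔛.X 0)] : IsNoetherian (𝔛.X n) := by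
  have := h𝔛.2.2 n
  have : CompactSpace (𝔛.X n) := (𝔛.levelHomeo h𝔛.1 n).compactSpace
  exact {}

include h𝔛 in
theorem qcqs [CompactSpace (𝔛.X 0)] :
    QuasiCompact ((f : FSch.Hom 𝔛 𝔜).app n) ∧ QuasiSeparated ((f : FSch.Hom 𝔛 𝔜).app n) := by
  have := isNoetherian_X h𝔛 n
  refine ⟨⟨fun U _ _ => NoetherianSpace.isCompact _⟩, inferInstance⟩

variable [HasInjectiveResolutions (FSch.ModF 𝔛 h𝔛.1)]

/-- `R^q f_*` of a quasi-coherent torsion module killed by an open ideal. -/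
theorem qct_Rpush_of_kl [CompactSpace (𝔛.X 0)] {M : FSch.ModF 𝔛 h𝔛.1} (hM : FTors.IsQCT 𝔛 h𝔛.1 M)
    (hk : KL h𝔛 n M) (q : ℕ) :
    FTors.IsQCT 𝔜 h𝔜.1 (((FSch.homMor f h𝔛.1 h𝔜.1).Rpush q).obj M) := by
  have := hasInj (𝔛.X n)
  have hN := K919.LevelQC.isQuasicoherent_pull h𝔛 n hM hk
  obtain ⟨e⟩ := nonempty_iso h𝔛 h𝔜 f n ((um h𝔛 n).pull.obj M) q
  have := K919.SerreQCT.isClosedUnderIso h𝔜
  obtain ⟨hqc, hqs⟩ := qcqs h𝔛 f n
  have h1 : Coh.IsQCoh (X := 𝔛.X n) ((um h𝔛 n).pull.obj M) := hN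
  have h2 := Groth.Agent.S0030.result ((f : FSch.Hom 𝔛 𝔜).app n) ((um h𝔛 n).pull.obj M) q
  exact (FTors.IsQCT 𝔜 h𝔜.1).prop_of_iso (((FSch.homMor f h𝔛.1 h𝔜.1).Rpush q).mapIso (isoPush h𝔛 n hk) ≪≫ e).symm
    (K919.LevelQC.qct_push h𝔜 n h2)

/-- `R^q f_*` of a coherent quasi-coherent torsion module killed by an open ideal, the level of `f` being proper. -/
theorem isCohF_Rpush_of_kl [IsProper ((f : FSch.Hom 𝔛 𝔜).app n)] {M : FSch.ModF 𝔛 h𝔛.1}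
    (hM : FTors.IsQCT 𝔛 h𝔛.1 M) (hk : KL h𝔛 n M) (hc : FSch.IsCohF 𝔛 h𝔛.1 M) (q : ℕ) :
    FSch.IsCohF 𝔜 h𝔜.1 (((FSch.homMor f h𝔛.1 h𝔜.1).Rpush q).obj M) := by
  have := hasInj (𝔛.X n)
  have hN := K919.LevelQC.isQuasicoherent_pull h𝔛 n hM hk
  have hN' := K919.LevelCoh.isFiniteType_pull h𝔛 n hM hk hc
  obtain ⟨e⟩ := nonempty_iso h𝔛 h𝔜 f n ((um h𝔛 n).pull.obj M) q
  have := h𝔜.2.2 n
  have h2 := Groth.Agent.S0036.result ((f : FSch.Hom 𝔛 𝔜).app n) ((um h𝔛 n).pull.obj M) ⟨hN, hN'⟩ q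
  exact K180.FSchCls.isCohF_of_iso h𝔜.1
    (((FSch.homMor f h𝔛.1 h𝔜.1).Rpush q).mapIso (isoPush h𝔛 n hk) ≪≫ e).symm
    (K919.LevelCoh.isCohF_push h𝔜 n h2.1 h2.2)

end K72.LvCoh
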