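import Groth.Agent.FTors.K72.DerCmp
import Groth.Agent.FTors.K919.LevelCoh
import Groth.Agent.FSch.K181.PushCoprod

/-!
# Higher direct images of modules on the levels

`nonempty_iso`: `R^q f_* (u_n)_* N ≅ (u_n)_* R^q (f_n)_* N`.
-/

set_option autoImplicit false
set_option linter.style.haveILetI false

universe u

open CategoryTheory CategoryTheory.Limits AlgebraicGeometry TopologicalSpace Opposite

noncomputable section

namespace K72.LvDer

open K919.Level K29.RSec K29.RExact K29.RPull Groth.Agent.Etcore.DerLES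

section Push

variable {T T1 : TopCat.{u}} {f : T1 ⟶ T} {R : Sheaf (Opens.grothendieckTopology T) CommRingCat.{u}}
  {R1 : Sheaf (Opens.grothendieckTopology T1) CommRingCat.{u}}
  [(Opens.map f).IsContinuous (Opens.grothendieckTopology T) (Opens.grothendieckTopology T1)]
  {φ : ringSheaf R ⟶ ((Opens.map f).sheafPushforwardContinuous RingCat.{u}
    (Opens.grothendieckTopology T) (Opens.grothendieckTopology T1)).obj (ringSheaf R1)}

/-- The direct image along a homeomorphism preserves epimorphisms. -/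
theorem epi_push (hf : IsHomeomorph f) {P Q : Mod R1} (g : P ⟶ Q) [Epi g] : Epi ((push φ).map g) := by
  rw [epi_iff_local]
  intro V t y hy
  obtain ⟨x, rfl⟩ := hf.surjective y
  obtain ⟨W', hxW', hW', s, hs⟩ := (epi_iff_local g).1 inferInstance (pre f V) (ofPush φ t) x hy
  obtain ⟨U, hU, hUW⟩ := hf.isInducing.isOpen_iff.1 W'.isOpen
  have hxU : f x ∈ (⟨U, hU⟩ : Opens T) := by
    have : x ∈ f ⁻¹' U := by rw [hUW]; exact hxW'
    exact this
  have hle : pre f ((⟨U, hU⟩ : Opens T) ⊓ V) ≤ W' := by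
    intro z hz
    have h2 : z ∈ f ⁻¹' U := hz.1
    rw [hUW] at h2
    exact h2
  refine ⟨(⟨U, hU⟩ : Opens T) ⊓ V, ⟨hxU, hy⟩, inf_le_right, toPush φ (K29.RSec.res P hle s), ?_⟩
  have h3 : app g (pre f ((⟨U, hU⟩ : Opens T) ⊓ V)) (K29.RSec.res P hle s) =
      K29.RSec.res Q (pre_mono f inf_le_right) (ofPush φ t) := by
    rw [app_res, hs, res_res]
  exact h3

theorem additive_push (g : ModSite.RMor R1 R) : g.push.Additive := inferInstance

/-- Direct images of injective modules are flasque. -/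
theorem isFlasque_push (g : ModSite.RMor R1 R) (I : ModSite.Mod R1) [Injective I] :
    TopCat.Sheaf.IsFlasque (ModSite.toAb (g.push.obj I)) where
  epi {U V} i := by
    rw [AddCommGrpCat.epi_iff_surjective]
    intro s
    obtain ⟨t, ht⟩ := K181.PushCoprod.res_surjective_of_injective I (leOfHom (g.fn.map i.unop)) s
    exact ⟨t, ht⟩

variable {T2 : TopCat.{u}} {R2 : Sheaf (Opens.grothendieckTopology T2) CommRingCat.{u}}

/-- Direct images of injective modules are acyclic for direct images. -/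
theorem isAcyc_push (g : ModSite.RMor R1 R) (h : ModSite.RMor R R2) (I : ModSite.Mod R1) [Injective I] :
    haveI := K578.Der.enoughInjectives R
    Acyc h.push (g.push.obj I) := by
  have := K578.Der.enoughInjectives R
  intro q
  have : SiteCmp.HasRpushD h := K578.Der.hasRpushD _
  have h1 := isFlasque_push g I
  have h2 := K578.LocZero.isZero_homologySingle_of_local h (g.push.obj I) (q + 1)
    Set.univ (K181.PushCoprod.exists_cover_univ _)
    (fun W _ => Groth.Agent.S0452.result (ModSite.toAb (g.push.obj I)) (h.fn.obj W) q)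
  exact h2.of_iso (K578.RpushSingle.homologySingle h (g.push.obj I) (q + 1)).symm

end Push

variable {𝔛 𝔜 : FSch.Sys.{u}} (h𝔛 : 𝔛.IsLocNoethFormal) (h𝔜 : 𝔜.IsLocNoethFormal) (f : 𝔛 ⟶ 𝔜) (n : ℕ)

theorem preservesFiniteColimits_push : PreservesFiniteColimits (um h𝔛 n).push := by
  have := K578.LocZero.preservesFiniteLimits_push (um h𝔛 n)
  have : (um h𝔛 n).push.Additive := additive_push (um h𝔛 n)
  rw [(um h𝔛 n).push.preservesFiniteColimits_iff_forall_exact_map_and_epi]
  intro S hS
  have := hS.mono_f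
  have := hS.epi_g
  have h1 := ((um h𝔛 n).push.preservesFiniteLimits_iff_forall_exact_map_and_mono).1 inferInstance S hS
  exact ⟨h1.1, epi_push (φ := phi h𝔛 n) (isHomeomorph_bs h𝔛 n) S.g⟩

variable [HasInjectiveResolutions (FSch.ModF 𝔛 h𝔛.1)] [HasInjectiveResolutions (𝔛.X n).Modules]

/-- `R^q f_* (u_n)_* N ≅ (u_n)_* R^q (f_n)_* N`. -/
theorem nonempty_iso (N : (𝔛.X n).Modules) (q : ℕ) :
    Nonempty (((FSch.homMor f h𝔛.1 h𝔜.1).Rpush q).obj ((um h𝔛 n).push.obj N) ≅
      (um h𝔜 n).push.obj ((Coh.Rpush ((f : FSch.Hom 𝔛 𝔜).app n) q).obj N)) := by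
  have := K578.Der.enoughInjectives (𝔛.Osh h𝔛.1)
  have := K578.Der.enoughInjectives (𝔛.X n).sheaf
  have := K578.LocZero.preservesFiniteLimits_push (um h𝔛 n)
  have : (um h𝔛 n).push.Additive := additive_push (um h𝔛 n)
  have : (um h𝔜 n).push.Additive := additive_push (um h𝔜 n)
  have : (ModSite.RMor.ofScheme ((f : FSch.Hom 𝔛 𝔜).app n)).push.Additive :=
    additive_push (ModSite.RMor.ofScheme ((f : FSch.Hom 𝔛 𝔜).app n))
  have := preservesFiniteColimits_push h𝔛 n
  have := preservesFiniteColimits_push h𝔜 n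
  have := K578.LocZero.preservesFiniteLimits_push (FSch.homMor f h𝔛.1 h𝔜.1)
  have := K578.LocZero.preservesFiniteLimits_push (ModSite.RMor.ofScheme ((f : FSch.Hom 𝔛 𝔜).app n))
  have h := K72.DerCmp.nonempty_iso (um h𝔛 n).push (FSch.homMor f h𝔛.1 h𝔜.1).push
    (ModSite.RMor.ofScheme ((f : FSch.Hom 𝔛 𝔜).app n)).push (um h𝔜 n).push (FSch.lvPushSq f h𝔛.1 h𝔜.1 n)
    (fun I hI => isAcyc_push (um h𝔛 n) (FSch.homMor f h𝔛.1 h𝔜.1) I) q N
  exact h

end K72.LvDer
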