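import Groth.Agent.FTors.K919.SerreQCT
import Groth.Agent.FSch.K180.WSer

/-!
# Coherent quasi-coherent torsion modules form a weak Serre class
-/

set_option autoImplicit false

universe u

open CategoryTheory CategoryTheory.Limits AlgebraicGeometry TopologicalSpace Opposite

namespace K72.QCTCoh

variable {𝔛 : FSch.Sys.{u}} (h𝔛 : 𝔛.IsLocNoethFormal)

/-- Coherent quasi-coherent torsion modules. -/
def IsQCTCoh : ObjectProperty (FSch.ModF 𝔛 h𝔛.1) := fun M => FTors.IsQCT 𝔛 h𝔛.1 M ∧ FSch.IsCohF 𝔛 h𝔛.1 M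

/-- The intersection of two weak Serre classes. -/
theorem isWeakSerre_inf {C : Type*} [Category* C] [Abelian C] (P Q : ObjectProperty C) [WSerre.IsWeakSerre P]
    [WSerre.IsWeakSerre Q] : WSerre.IsWeakSerre (fun X => P X ∧ Q X) := by
  have hi : ObjectProperty.IsClosedUnderIsomorphisms (fun X : C => P X ∧ Q X) :=
    ⟨fun e h => ⟨P.prop_of_iso e h.1, Q.prop_of_iso e h.2⟩⟩
  refine K919.SerreTors.isWeakSerre_of _ ?_ ?_ ?_ ?_
  · obtain ⟨Z, hZ, hP⟩ := P.exists_prop_of_containsZero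
    exact ⟨Z, hZ, hP, Q.prop_of_isZero hZ⟩
  · exact fun f h h' => ⟨P.prop_kernel f h.1 h'.1, Q.prop_kernel f h.2 h'.2⟩
  · intro S hS h h'
    have := hS.mono_f
    have e : cokernel S.f ≅ S.X₃ := (cokernelIsCokernel S.f).coconePointUniqueUpToIso hS.gIsCokernel
    exact ⟨P.prop_of_iso e (P.prop_cokernel S.f h.1 h'.1), Q.prop_of_iso e (Q.prop_cokernel S.f h.2 h'.2)⟩
  · exact fun S hS h h' => ⟨P.prop_X₂_of_shortExact hS h.1 h'.1, Q.prop_X₂_of_shortExact hS h.2 h'.2⟩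

theorem isWeakSerre : WSerre.IsWeakSerre (IsQCTCoh h𝔛) := by
  have := K919.SerreQCT.isWeakSerre_QCT h𝔛
  have := K180.WSer.isWeakSerre_isCohF h𝔛
  exact isWeakSerre_inf (FTors.IsQCT 𝔛 h𝔛.1) (fun 𝔊 : FSch.ModF 𝔛 h𝔛.1 => FSch.IsCohF 𝔛 h𝔛.1 𝔊)

end K72.QCTCoh
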