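import Groth.Agent.FTors.K72.LvCoh
import Groth.Agent.FTors.K72.KTel
import Groth.Agent.FTors.K72.KlDev
import Groth.Agent.FTors.K72.DerWS
import Groth.Agent.Etrest.RpushSum

/-!
# Higher direct images of quasi-coherent torsion modules

* `qct_Rpush`: `R^q f_*` of a quasi-coherent torsion module is quasi-coherent torsion;
* `isCohF_Rpush`: `R^q f_*` of a coherent quasi-coherent torsion module is coherent if `f_0` is proper.
-/

set_option autoImplicit false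
set_option linter.style.haveILetI false

universe u

open CategoryTheory CategoryTheory.Limits AlgebraicGeometry TopologicalSpace Opposite

noncomputable section

namespace K72.RfQCT

open K919.Level K919.KSub K919.Kill K72.LvDer K72.LvCoh K72.KTel K72.KlDev

section Cop

variable {T₁ T₂ : TopCat.{u}} {O₁ : Sheaf (Opens.grothendieckTopology T₁) CommRingCat.{u}}
  {O₂ : Sheaf (Opens.grothendieckTopology T₂) CommRingCat.{u}} (g : ModSite.RMor O₁ O₂)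

/-- Direct sums of modules are exact. -/
theorem hasExact (O : Sheaf (Opens.grothendieckTopology T₁) CommRingCat.{u}) (J : Type u) :
    HasExactColimitsOfShape (Discrete J) (ModSite.Mod O) := by
  have := K578.Der.isGrothendieckAbelian O
  have h : AB4OfSize.{u} (ModSite.Mod O) := inferInstance
  exact AB4OfSize.ofShape J

/-- Higher direct images on a Noetherian space commute with direct sums. -/
theorem preservesCoproducts_Rpush [NoetherianSpace T₁] [HasInjectiveResolutions (ModSite.Mod O₁)] (J : Type u)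
    (q : ℕ) : PreservesColimitsOfShape (Discrete J) (g.Rpush q) := by
  have := K578.Der.enoughInjectives O₁
  have := K578.Der.isGrothendieckAbelian O₁
  have := K578.Der.isGrothendieckAbelian O₂
  have := hasExact O₁ J
  have := K181.PushCoprod.preservesCoproducts_push g J
  have := K578.LocZero.preservesFiniteLimits_push g
  exact Groth.Agent.Etrest.RpushSum.preservesColimitsOfShape_rightDerived g.push
    (fun I hI => K181.PushCoprod.isAcyc_sigma g I hI) q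

end Cop

variable {𝔛 𝔜 : FSch.Sys.{u}} (h𝔛 : 𝔛.IsLocNoethFormal) (h𝔜 : 𝔜.IsLocNoethFormal) (f : 𝔛 ⟶ 𝔜)
  [CompactSpace (𝔛.X 0)] [HasInjectiveResolutions (FSch.ModF 𝔛 h𝔛.1)]

/-- Direct sums of a sequence. -/
theorem qct_Rpush_sigma (K : ℕ → FSch.ModF 𝔛 h𝔛.1) (q : ℕ)
    (hK : ∀ n, FTors.IsQCT 𝔜 h𝔜.1 (((FSch.homMor f h𝔛.1 h𝔜.1).Rpush q).obj (K n))) :
    haveI := hasCop h𝔛 ℕ
    FTors.IsQCT 𝔜 h𝔜.1 (((FSch.homMor f h𝔛.1 h𝔜.1).Rpush q).obj (∐ K)) := by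
  have := hasCop h𝔛 ℕ
  have : NoetherianSpace (𝔛.X 0) := by
    have := isNoetherian_X h𝔛 0
    infer_instance
  have h1 := preservesCoproducts_Rpush (FSch.homMor f h𝔛.1 h𝔜.1) (ULift.{u} ℕ) q
  have h2 : PreservesColimitsOfShape (Discrete ℕ) ((FSch.homMor f h𝔛.1 h𝔜.1).Rpush q) :=
    preservesColimitsOfShape_of_equiv (Discrete.equivalence Equiv.ulift : Discrete (ULift.{u} ℕ) ≌ Discrete ℕ) _
  have h3 := isColimitOfPreserves ((FSch.homMor f h𝔛.1 h𝔜.1).Rpush q) (coproductIsCoproduct K)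
  have h4 := isColimitMapCoconeCofanMkEquiv ((FSch.homMor f h𝔛.1 h𝔜.1).Rpush q) K (Sigma.ι K)
    (isColimitOfPreserves ((FSch.homMor f h𝔛.1 h𝔜.1).Rpush q) (coproductIsCoproduct K))
  exact K919.QCTColim.qct_coproduct h𝔜 _ h4 hK

/-- `R^q f_*` of a quasi-coherent torsion module is quasi-coherent torsion. -/
theorem qct_Rpush {M : FSch.ModF 𝔛 h𝔛.1} (hM : FTors.IsQCT 𝔛 h𝔛.1 M) (q : ℕ) :
    FTors.IsQCT 𝔜 h𝔜.1 (((FSch.homMor f h𝔛.1 h𝔜.1).Rpush q).obj M) := by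
  have := hasCop h𝔛 ℕ
  obtain ⟨a, b, w, hS⟩ := shortExact_tel h𝔛 M hM.1
  have h1 : ∀ q, FTors.IsQCT 𝔜 h𝔜.1 (((FSch.homMor f h𝔛.1 h𝔜.1).Rpush q).obj (∐ Kn h𝔛 M)) := fun q =>
    qct_Rpush_sigma h𝔛 h𝔜 f (Kn h𝔛 M) q fun n => qct_Rpush_of_kl h𝔛 h𝔜 f n (qct_ksub h𝔛 n M hM.2) (kl_ksub h𝔛 n M) q
  have := K919.SerreQCT.isWeakSerre_QCT h𝔜
  exact K72.DerWS.derived_X₃ (FSch.homMor f h𝔛.1 h𝔜.1).push (FTors.IsQCT 𝔜 h𝔜.1) hS h1 h1 q

omit [CompactSpace (𝔛.X 0)] in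
/-- `R^q f_*` of a coherent quasi-coherent torsion module killed by an open ideal is coherent. -/
theorem isCohF_Rpush_kl [IsProper ((f : FSch.Hom 𝔛 𝔜).app 0)] (n : ℕ) :
    ∀ {M : FSch.ModF 𝔛 h𝔛.1} (_ : FTors.IsQCT 𝔛 h𝔛.1 M) (_ : FSch.IsCohF 𝔛 h𝔛.1 M) (_ : KL h𝔛 n M) (q : ℕ),
    FSch.IsCohF 𝔜 h𝔜.1 (((FSch.homMor f h𝔛.1 h𝔜.1).Rpush q).obj M) := by
  induction n with
  | zero =>
    intro M hM hc hk q
    exact isCohF_Rpush_of_kl h𝔛 h𝔜 f 0 hM hk hc q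
  | succ n ih =>
    intro M hM hc hk q
    have := K180.WSer.isWeakSerre_isCohF h𝔜
    have := K578.LocZero.preservesFiniteLimits_push (FSch.homMor f h𝔛.1 h𝔜.1)
    exact K72.DerWS.derived_X₂ (FSch.homMor f h𝔛.1 h𝔜.1).push (fun 𝔊 : FSch.ModF 𝔜 h𝔜.1 => FSch.IsCohF 𝔜 h𝔜.1 𝔊)
      (shortExact_kseq h𝔛 M 0)
      (fun q => isCohF_Rpush_of_kl h𝔛 h𝔜 f 0 (qct_ksub h𝔛 0 M hM.2) (kl_ksub h𝔛 0 M) (isCohF_ksub h𝔛 hM hc 0) q)
      (fun q => ih (qct_quot h𝔛 hM 0) (coh_quot h𝔛 hM hc 0) (kl_quot h𝔛 hk) q) q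

/-- `R^q f_*` of a coherent quasi-coherent torsion module is coherent if `f_0` is proper. -/
theorem isCohF_Rpush [IsProper ((f : FSch.Hom 𝔛 𝔜).app 0)] {M : FSch.ModF 𝔛 h𝔛.1} (hM : FTors.IsQCT 𝔛 h𝔛.1 M)
    (hc : FSch.IsCohF 𝔛 h𝔛.1 M) (q : ℕ) :
    FSch.IsCohF 𝔜 h𝔜.1 (((FSch.homMor f h𝔛.1 h𝔜.1).Rpush q).obj M) := by
  obtain ⟨n, hn⟩ := exists_kl h𝔛 hM hc
  exact isCohF_Rpush_kl h𝔛 h𝔜 f n hM hc hn q

end K72.RfQCT
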