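import Groth.Agent.Cohder.TelescopeSeq
import Mathlib.CategoryTheory.Abelian.GrothendieckAxioms.Colim
import Mathlib.CategoryTheory.Filtered.Connected

/-!
# The telescope of an increasing sequence of subobjects

`shortExact`: for an increasing sequence of subobjects `K n` of `M` with `∐ K n ⟶ M` epi, the sequence
`0 ⟶ ∐ K n ⟶ ∐ K n ⟶ M ⟶ 0` is exact.
-/

set_option autoImplicit false
universe v u
open CategoryTheory CategoryTheory.Limits

namespace K72.Tel

open Groth.Agent.Cohder.TelescopeSeq Groth.Agent.Cohder.Telescope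

variable {A : Type u} [Category.{v} A] [Abelian A] [HasColimitsOfShape ℕ A] [HasExactColimitsOfShape ℕ A]
  {K : ℕ → A} (f : ∀ n, K n ⟶ K (n + 1)) {M : A} (i : ∀ n, K n ⟶ M) (hi : ∀ n, f n ≫ i (n + 1) = i n)

theorem mono_descSeq (hm : ∀ n, Mono (i n)) : Mono (descSeq f i hi) := by
  let α : Functor.ofSequence f ⟶ (Functor.const ℕ).obj M :=
    NatTrans.ofSequence (F := Functor.ofSequence f) (G := (Functor.const ℕ).obj M) i (fun n => by
      rw [Functor.ofSequence_map_homOfLE_succ]
      exact (hi n).trans (Category.comp_id _).symm)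
  have : ∀ n, Mono (α.app n) := hm
  have := NatTrans.mono_of_mono_app α
  have : IsConnected ℕ := IsFiltered.isConnected ℕ
  refine CategoryTheory.Limits.colim.map_mono' α (colimit.isColimit _) (isColimitConstCocone ℕ M) _ fun n => ?_
  exact (ι_descSeq f i hi n).trans (Category.comp_id _).symm

include hi in
/-- The telescope exact sequence. -/
theorem shortExact [HasCoproduct K] (hm : ∀ n, Mono (i n)) (he : Epi (Sigma.desc i)) :
    ∃ w : (𝟙 (∐ K) - DerLim.shiftMap K f) ≫ Sigma.desc i = 0, (ShortComplex.mk _ _ w).ShortExact := by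
  have h1 := mono_descSeq f i hi hm
  have h2 : Sigma.desc (ιSeq f) ≫ descSeq f i hi = Sigma.desc i := by
    apply Sigma.hom_ext
    intro n
    rw [Sigma.ι_desc_assoc, ι_descSeq, Sigma.ι_desc]
  have h3 : Epi (Sigma.desc (ιSeq f) ≫ descSeq f i hi) := by rw [h2]; exact he
  have h4 : Epi (descSeq f i hi) := epi_of_epi (Sigma.desc (ιSeq f)) (descSeq f i hi)
  have h5 : IsIso (descSeq f i hi) := isIso_of_mono_of_epi _
  have w : (𝟙 (∐ K) - DerLim.shiftMap K f) ≫ Sigma.desc i = 0 := by
    rw [← h2, ← Category.assoc, seq_w, zero_comp]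
  let e : ShortComplex.mk _ _ (seq_w f) ≅ ShortComplex.mk _ _ w :=
    ShortComplex.isoMk (Iso.refl _) (Iso.refl _) (asIso (descSeq f i hi))
      ((Category.id_comp _).trans (Category.comp_id _).symm) ((Category.id_comp _).trans h2.symm)
  exact ⟨w, ShortComplex.shortExact_of_iso e (seq_shortExact f)⟩

end K72.Tel
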